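import Cfsg.Agent.Lib.CharClifford.Clifford
import Cfsg.Agent.Lib.CharCore.Complete

/-!
# Characters of a group with a self-centralising normal Frobenius kernel

`H` is a normal subgroup of `L` with `C_L(h) ≤ H` for all `h ∈ H#`.
-/

namespace Cfsg.Agent.CharClifford.FrobTI

open scoped ComplexConjugate
open Cfsg.Agent.CharCore

universe u

variable {L : Type u} [Group L]

/-- `H` contains the centralisers of its non-identity elements. -/
def Kernelish (H : Subgroup L) : Prop :=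
  ∀ h ∈ H, h ≠ 1 → ∀ y : L, y * h = h * y → y ∈ H

variable (H : Subgroup L) [hN : H.Normal]

/-- An element outside `H` moves every non-identity element of `H` out of its `H`-class. -/
theorem not_isConj_conj (hK : Kernelish H) {h : H} (hh : h ≠ 1) {y : L} (hy : y ∉ H) :
    ¬ IsConj h ⟨y * h * y⁻¹, hN.conj_mem h h.2 y⟩ := by
  intro hc
  obtain ⟨w, hw⟩ := isConj_iff.mp hc
  have hw' : (w : L) * h * (w : L)⁻¹ = y * h * y⁻¹ := congrArg Subtype.val hw
  have hcomm : ((w : L)⁻¹ * y) * h = h * ((w : L)⁻¹ * y) := by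
    calc ((w : L)⁻¹ * y) * h = (w : L)⁻¹ * (y * h * y⁻¹) * y := by group
      _ = (w : L)⁻¹ * ((w : L) * h * (w : L)⁻¹) * y := by rw [hw']
      _ = h * ((w : L)⁻¹ * y) := by group
  have := hK h h.2 (fun e => hh (Subtype.ext e)) _ hcomm
  exact hy (by simpa using H.mul_mem w.2 this)

variable [Fintype L] [Fintype H]

/-- `∑_θ θ(h) conj (θ (y h y⁻¹))` -/
theorem sum_irr_mul_conj_conjFun (hK : Kernelish H) {h : H} (hh : h ≠ 1) (y : L)
    [Decidable (y ∈ H)] :
    ∑ θ : Cfsg.IrrCharacter H, (θ : H → ℂ) h * conj (conjFun H y θ h) =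
      if y ∈ H then (Nat.card (Subgroup.centralizer ({h} : Set H)) : ℂ) else 0 := by
  classical
  simp only [conjFun_apply]
  have e := sum_apply_mul_conj h (⟨y * (h : L) * y⁻¹, hN.conj_mem h h.2 y⟩ : H)
  by_cases hy : y ∈ H
  · have hc : IsConj h (⟨y * (h : L) * y⁻¹, hN.conj_mem h h.2 y⟩ : H) :=
      isConj_iff.mpr ⟨⟨y, hy⟩, rfl⟩
    rw [if_pos hy, e, if_pos hc]
  · rw [if_neg hy, e, if_neg (not_isConj_conj H hK hh hy)]

/-- No element outside `H` fixes a non-principal irreducible character of `H`. -/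
theorem mem_of_conjFun_eq (hK : Kernelish H) {θ : H → ℂ} (hθ : Cfsg.IsIrrCharacter H θ)
    (hθ1 : θ ≠ 1) {y : L} (hy : conjFun H y θ = θ) : y ∈ H := by
  classical
  by_contra hyH
  have hsum : ∑ φ : Cfsg.IrrCharacter H, Cfsg.classInner (φ : H → ℂ) (conjFun H y φ) = 1 := by
    unfold Cfsg.classInner
    rw [← Finset.mul_sum, Finset.sum_comm, ← Finset.add_sum_erase _ _ (Finset.mem_univ (1 : H)),
      Finset.sum_eq_zero (s := Finset.univ.erase 1) (fun h hh => by
        rw [sum_irr_mul_conj_conjFun H hK (Finset.mem_erase.mp hh).1 y, if_neg hyH]),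
      add_zero, inv_mul_eq_one₀ (CharInd.natCard_subgroup_ne_zero H)]
    rw [← sum_degree_sq]
    refine Finset.sum_congr rfl fun φ _ => ?_
    obtain ⟨d, hd⟩ := IsIrrCharacter.exists_degree φ.2
    rw [conjFun_apply, show (⟨y * ((1 : H) : L) * y⁻¹, hN.conj_mem _ (1 : H).2 y⟩ : H) = 1 from
      Subtype.ext (by simp)]
    simp [hd.2, sq]
  have hterm : ∀ φ : Cfsg.IrrCharacter H, Cfsg.classInner (φ : H → ℂ) (conjFun H y φ) =
      if conjFun H y φ = (φ : H → ℂ) then 1 else 0 := fun φ => by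
    by_cases hf : conjFun H y φ = (φ : H → ℂ)
    · rw [if_pos hf, hf, classInner_irr_self]
    · rw [if_neg hf]
      exact classInner_irr_of_ne (ψ := ⟨_, isIrrCharacter_conjFun H φ.2 y⟩)
        fun e => hf (congrArg Subtype.val e).symm
  rw [Finset.sum_congr rfl fun φ _ => hterm φ, ← Finset.natCast_card_filter] at hsum
  have hcard : (Finset.univ.filter fun φ : Cfsg.IrrCharacter H =>
      conjFun H y φ = (φ : H → ℂ)).card = 1 := by exact_mod_cast hsum
  have hle := hcard.le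
  rw [Finset.card_le_one] at hle
  have h1 : (⟨θ, hθ⟩ : Cfsg.IrrCharacter H) = ⟨1, isIrrCharacter_one⟩ :=
    hle _ (Finset.mem_filter.mpr ⟨Finset.mem_univ _, hy⟩) _
      (Finset.mem_filter.mpr ⟨Finset.mem_univ _, rfl⟩)
  exact hθ1 (congrArg Subtype.val h1)

/-- Non-principal characters of `H` induce irreducibly. -/
theorem isIrrCharacter_indFun (hK : Kernelish H) {θ : H → ℂ} (hθ : Cfsg.IsIrrCharacter H θ)
    (hθ1 : θ ≠ 1) : Cfsg.IsIrrCharacter L (Cfsg.indFun H θ) := by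
  classical
  rw [isIrrCharacter_iff]
  refine ⟨CharInd.isCharacter_indFun H (IsIrrCharacter.isCharacter hθ), ?_⟩
  rw [classInner_indFun_indFun, inv_mul_eq_one₀ (CharInd.natCard_subgroup_ne_zero H)]
  rw [Finset.sum_congr rfl fun x _ =>
    show Cfsg.classInner θ (conjFun H x θ) = if x ∈ H then 1 else 0 by
      by_cases hx : x ∈ H
      · rw [if_pos hx, conjFun_of_mem H (IsCharacter.isClassFunction (IsIrrCharacter.isCharacter hθ)) hx]
        exact classInner_irr_self ⟨θ, hθ⟩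
      · rw [if_neg hx]
        exact classInner_irr_of_ne (χ := ⟨θ, hθ⟩) (ψ := ⟨_, isIrrCharacter_conjFun H hθ x⟩)
          fun e => hx (mem_of_conjFun_eq H hK hθ hθ1 (congrArg Subtype.val e).symm),
    ← Finset.natCast_card_filter, Nat.card_eq_fintype_card, Fintype.card_subtype]

/-- The orbit of a character is the set of characters inducing to the same character. -/
theorem indFun_eq_iff (hK : Kernelish H) {θ φ : H → ℂ} (hθ : Cfsg.IsIrrCharacter H θ)
    (hθ1 : θ ≠ 1) (hφ : Cfsg.IsIrrCharacter H φ) :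
    Cfsg.indFun H θ = Cfsg.indFun H φ ↔ ∃ x : L, φ = conjFun H x θ := by
  constructor
  · intro h
    have h1 : Cfsg.classInner (Cfsg.indFun H φ) (Cfsg.indFun H θ) ≠ 0 := by
      rw [← h, (isIrrCharacter_iff.mp (isIrrCharacter_indFun H hK hθ hθ1)).2]
      exact one_ne_zero
    by_contra hne
    push Not at hne
    apply h1
    rw [classInner_indFun_indFun, Finset.sum_eq_zero, mul_zero]
    intro x _
    exact classInner_irr_of_ne (χ := ⟨φ, hφ⟩) (ψ := ⟨_, isIrrCharacter_conjFun H hθ x⟩)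
      fun e => hne x (congrArg Subtype.val e)
  · rintro ⟨x, rfl⟩
    funext g
    by_cases hg : g ∈ H
    · rw [show g = ((⟨g, hg⟩ : H) : L) from rfl, indFun_apply_normal H θ, indFun_apply_normal H]
      congr 1
      refine Fintype.sum_equiv (Equiv.mulLeft x⁻¹) _ _ fun y => ?_
      rw [conjFun_conjFun]
      simp
    · rw [indFun_eq_zero_of_notMem H θ hg, indFun_eq_zero_of_notMem H _ hg]

open Classical in
/-- The non-principal irreducible characters of `H`. -/
noncomputable def nonprincipal : Finset (Cfsg.IrrCharacter H) :=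
  Finset.univ.filter fun θ => (θ : H → ℂ) ≠ 1

omit hN in
theorem mem_nonprincipal {θ : Cfsg.IrrCharacter H} :
    θ ∈ nonprincipal H ↔ (θ : H → ℂ) ≠ 1 := by
  simp [nonprincipal]

open Classical in
/-- The irreducible characters of `L` which do not contain `H` in their kernel. -/
noncomputable def inducedSet : Finset (L → ℂ) :=
  (nonprincipal H).image fun θ : Cfsg.IrrCharacter H => Cfsg.indFun H (θ : H → ℂ)

omit hN in
theorem mem_inducedSet {ζ : L → ℂ} :
    ζ ∈ inducedSet H ↔ ∃ θ : Cfsg.IrrCharacter H, (θ : H → ℂ) ≠ 1 ∧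
      Cfsg.indFun H (θ : H → ℂ) = ζ := by
  simp [inducedSet, mem_nonprincipal]

open Classical in
/-- The characters of `H` inducing to `ζ`. -/
noncomputable def fibre (ζ : L → ℂ) : Finset (Cfsg.IrrCharacter H) :=
  (nonprincipal H).filter fun θ => Cfsg.indFun H (θ : H → ℂ) = ζ

omit hN in
theorem mem_fibre {ζ : L → ℂ} {θ : Cfsg.IrrCharacter H} :
    θ ∈ fibre H ζ ↔ (θ : H → ℂ) ≠ 1 ∧ Cfsg.indFun H (θ : H → ℂ) = ζ := by
  simp [fibre, mem_nonprincipal]

omit [Fintype L] [Fintype H] in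
theorem conjFun_ne_one {θ : H → ℂ} (hθ1 : θ ≠ 1) (x : L) : conjFun H x θ ≠ 1 := fun e => hθ1 <| by
  rw [show θ = conjFun H x⁻¹ (conjFun H x θ) by rw [conjFun_conjFun]; simp, e]
  rfl

/-- `(Ind θ)|H` is the sum of the fibre; the fibre has `|L : H|` members. -/
theorem indFun_apply_eq_sum_fibre (hK : Kernelish H) {ζ : L → ℂ} {θ : Cfsg.IrrCharacter H}
    (hθ : θ ∈ fibre H ζ) :
    (∀ h : H, ζ h = ∑ φ ∈ fibre H ζ, (φ : H → ℂ) h) ∧ (fibre H ζ).card = H.index := by
  classical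
  obtain ⟨hθ1, hθζ⟩ := (mem_fibre H).mp hθ
  let f : L → Cfsg.IrrCharacter H := fun x => ⟨_, isIrrCharacter_conjFun H θ.2 x⟩
  have hf : ∀ x ∈ (Finset.univ : Finset L), f x ∈ fibre H ζ := fun x _ => by
    refine (mem_fibre H).mpr ⟨conjFun_ne_one H hθ1 x, ?_⟩
    rw [← hθζ]
    exact ((indFun_eq_iff H hK θ.2 hθ1 (f x).2).mpr ⟨x, rfl⟩).symm
  have hfib : ∀ φ ∈ fibre H ζ, (Finset.univ.filter fun x => f x = φ).card = Nat.card H := by
    intro φ hφ
    obtain ⟨hφ1, hφζ⟩ := (mem_fibre H).mp hφ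
    obtain ⟨x₀, hx₀⟩ := (indFun_eq_iff H hK θ.2 hθ1 φ.2).mp (hθζ.trans hφζ.symm)
    rw [← Nat.card_eq_finsetCard]
    refine Nat.card_congr
      { toFun := fun x => ⟨x₀⁻¹ * x.1, ?_⟩
        invFun := fun h => ⟨x₀ * h.1, Finset.mem_filter.mpr ⟨Finset.mem_univ _, ?_⟩⟩
        left_inv := fun x => Subtype.ext (by simp)
        right_inv := fun h => Subtype.ext (by simp) }
    · refine mem_of_conjFun_eq H hK φ.2 hφ1 ?_
      rw [hx₀, conjFun_conjFun, mul_inv_cancel_left]
      exact (congrArg Subtype.val (Finset.mem_filter.mp x.2).2).trans hx₀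
    · apply Subtype.ext
      change conjFun H (x₀ * h.1) θ = (φ : H → ℂ)
      rw [← conjFun_conjFun, ← hx₀]
      exact conjFun_of_mem H (IsCharacter.isClassFunction (irr_isCharacter φ)) h.2
  refine ⟨fun h => ?_, ?_⟩
  · rw [← hθζ, indFun_apply_normal H (θ : H → ℂ) h, ← Finset.sum_fiberwise_of_maps_to hf, hθζ,
      Finset.mul_sum]
    refine Finset.sum_congr rfl fun φ hφ => ?_
    rw [Finset.sum_congr rfl fun x hx =>
      show conjFun H x θ h = (φ : H → ℂ) h by rw [← (Finset.mem_filter.mp hx).2],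
      Finset.sum_const, hfib φ hφ, nsmul_eq_mul,
      inv_mul_cancel_left₀ (CharInd.natCard_subgroup_ne_zero H)]
  · have h := Finset.card_eq_sum_card_fiberwise hf
    rw [Finset.sum_congr rfl hfib, Finset.sum_const, smul_eq_mul, Finset.card_univ,
      ← Nat.card_eq_fintype_card, ← H.index_mul_card] at h
    exact (Nat.eq_of_mul_eq_mul_right Nat.card_pos h).symm

omit hN in
theorem sum_inducedSet {M : Type*} [AddCommMonoid M] (F : Cfsg.IrrCharacter H → M) :
    ∑ ζ ∈ inducedSet H, ∑ φ ∈ fibre H ζ, F φ = ∑ φ ∈ nonprincipal H, F φ := by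
  classical
  exact Finset.sum_fiberwise_of_maps_to (fun φ hφ => Finset.mem_image_of_mem _ hφ) F

omit hN in
theorem sum_nonprincipal (F : Cfsg.IrrCharacter H → ℂ) :
    ∑ φ ∈ nonprincipal H, F φ = (∑ φ, F φ) - F ⟨1, isIrrCharacter_one⟩ := by
  classical
  rw [show nonprincipal H = Finset.univ.erase ⟨1, isIrrCharacter_one⟩ by
      ext φ; rw [mem_nonprincipal]; simp [Subtype.ext_iff],
    ← Finset.add_sum_erase _ _ (Finset.mem_univ (⟨1, isIrrCharacter_one⟩ : Cfsg.IrrCharacter H))]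
  ring

omit hN in
theorem apply_one_eq {ζ : L → ℂ} {φ : Cfsg.IrrCharacter H}
    (hφ : φ ∈ fibre H ζ) : ζ 1 = H.index * (φ : H → ℂ) 1 := by
  rw [← ((mem_fibre H).mp hφ).2, CharInd.indFun_apply_one]

/-- Multiplicity-free description of the induced set. -/
theorem inducedSet_isIrr (hK : Kernelish H) {ζ : L → ℂ} (hζ : ζ ∈ inducedSet H) :
    Cfsg.IsIrrCharacter L ζ := by
  obtain ⟨θ, hθ1, rfl⟩ := (mem_inducedSet H).mp hζ
  exact isIrrCharacter_indFun H hK θ.2 hθ1

omit hN in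
theorem fibre_nonempty {ζ : L → ℂ} (hζ : ζ ∈ inducedSet H) : (fibre H ζ).Nonempty := by
  obtain ⟨θ, hθ1, hθ⟩ := (mem_inducedSet H).mp hζ
  exact ⟨θ, (mem_fibre H).mpr ⟨hθ1, hθ⟩⟩

/-- `∑ ζ(1)² = |L:H| (|H| - 1)`. -/
theorem sum_degree_sq_inducedSet (hK : Kernelish H) :
    ∑ ζ ∈ inducedSet H, ζ 1 ^ 2 = H.index * ((Nat.card H : ℂ) - 1) := by
  have key : ∀ ζ ∈ inducedSet H, ζ 1 ^ 2 =
      ∑ φ ∈ fibre H ζ, (H.index : ℂ) * (φ : H → ℂ) 1 ^ 2 := fun ζ hζ => by
    obtain ⟨θ, hθ⟩ := fibre_nonempty H hζ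
    have e : ∀ φ ∈ fibre H ζ, (H.index : ℂ) * (φ : H → ℂ) 1 ^ 2 = ζ 1 * (φ : H → ℂ) 1 :=
      fun φ hφ => by rw [apply_one_eq H hφ]; ring
    rw [Finset.sum_congr rfl e, ← Finset.mul_sum, ← (indFun_apply_eq_sum_fibre H hK hθ).1 1]
    simp [sq]
  rw [Finset.sum_congr rfl key, sum_inducedSet, sum_nonprincipal, ← Finset.mul_sum, sum_degree_sq]
  simp [mul_sub]

/-- `∑ ζ(1) ζ(x) = -|L:H|` on `H#`. -/
theorem sum_degree_mul_inducedSet (hK : Kernelish H) {x : H} (hx : x ≠ 1) :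
    ∑ ζ ∈ inducedSet H, ζ 1 * ζ x = -(H.index : ℂ) := by
  classical
  have key : ∀ ζ ∈ inducedSet H, ζ 1 * ζ x =
      ∑ φ ∈ fibre H ζ, (H.index : ℂ) * ((φ : H → ℂ) 1 * (φ : H → ℂ) x) := fun ζ hζ => by
    obtain ⟨θ, hθ⟩ := fibre_nonempty H hζ
    rw [(indFun_apply_eq_sum_fibre H hK hθ).1 x, Finset.mul_sum]
    refine Finset.sum_congr rfl fun φ hφ => ?_
    rw [apply_one_eq H hφ]; ring
  rw [Finset.sum_congr rfl key, sum_inducedSet, sum_nonprincipal, ← Finset.mul_sum,
    sum_degree_mul_apply, if_neg hx]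
  simp

/-- `∑ |ζ(x)|² = |C(x)| - |L:H|` on `H#`. -/
theorem sum_normSq_inducedSet (hK : Kernelish H) {x : H} (hx : x ≠ 1) :
    ∑ ζ ∈ inducedSet H, ζ x * conj (ζ x) =
      (Nat.card (Subgroup.centralizer ({x} : Set H)) : ℂ) - H.index := by
  classical
  have key : ∀ ζ ∈ inducedSet H, ζ x * conj (ζ x) =
      ∑ φ ∈ fibre H ζ, (φ : H → ℂ) x *
        conj (Cfsg.indFun H (φ : H → ℂ) x) := fun ζ hζ => by
    obtain ⟨θ, hθ⟩ := fibre_nonempty H hζ
    rw [Finset.sum_congr rfl fun φ hφ => by rw [((mem_fibre H).mp hφ).2], ← Finset.sum_mul,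
      ← (indFun_apply_eq_sum_fibre H hK hθ).1 x]
  rw [Finset.sum_congr rfl key, sum_inducedSet]
  simp only [indFun_apply_normal, map_mul, map_inv₀, map_natCast, map_sum, Finset.mul_sum]
  rw [Finset.sum_comm]
  have inner : ∀ y : L, ∑ φ ∈ nonprincipal H,
      (φ : H → ℂ) x * ((Nat.card H : ℂ)⁻¹ * conj (conjFun H y φ x)) =
      (Nat.card H : ℂ)⁻¹ *
        ((if y ∈ H then (Nat.card (Subgroup.centralizer ({x} : Set H)) : ℂ) else 0) - 1) := by
    intro y
    have e : ∀ φ ∈ nonprincipal H,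
        (φ : H → ℂ) x * ((Nat.card H : ℂ)⁻¹ * conj (conjFun H y φ x)) =
          (Nat.card H : ℂ)⁻¹ * ((φ : H → ℂ) x * conj (conjFun H y φ x)) :=
      fun φ _ => mul_left_comm _ _ _
    rw [← sum_irr_mul_conj_conjFun H hK hx y, Finset.sum_congr rfl e, ← Finset.mul_sum,
      sum_nonprincipal]
    simp [conjFun_apply]
  rw [Finset.sum_congr rfl fun y _ => inner y, ← Finset.mul_sum, Finset.sum_sub_distrib,
    ← Finset.sum_filter, Finset.sum_const, Finset.sum_const, nsmul_eq_mul, nsmul_eq_mul, mul_one,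
    show (Finset.univ.filter fun y : L => y ∈ H).card = Nat.card H by
      rw [Nat.card_eq_fintype_card, Fintype.card_subtype],
    Finset.card_univ, ← Nat.card_eq_fintype_card, ← H.index_mul_card, Nat.cast_mul]
  field_simp [CharInd.natCard_subgroup_ne_zero H]

/-- `∑_{x ∈ H#} |C_H(x)| = |H| |L:H| #(inducedSet)`. -/
theorem sum_card_centralizer [DecidableEq H] (hK : Kernelish H) :
    ∑ x ∈ (Finset.univ : Finset H).erase 1,
        (Nat.card (Subgroup.centralizer ({x} : Set H)) : ℂ) =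
      Nat.card H * ((H.index : ℂ) * (inducedSet H).card) := by
  classical
  have hk : ((nonprincipal H).card : ℂ) = H.index * (inducedSet H).card := by
    have h := sum_inducedSet H (fun _ => (1 : ℕ))
    simp only [Finset.sum_const, smul_eq_mul, mul_one] at h
    rw [← h, Finset.sum_congr rfl fun ζ hζ =>
      (indFun_apply_eq_sum_fibre H hK (fibre_nonempty H hζ).choose_spec).2, Finset.sum_const,
      smul_eq_mul, Nat.cast_mul, mul_comm]
  rw [← hk]
  have h1 : ∀ x : H, (Nat.card (Subgroup.centralizer ({x} : Set H)) : ℂ) =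
      ∑ φ : Cfsg.IrrCharacter H, (φ : H → ℂ) x * conj ((φ : H → ℂ) x) := fun x => by
    rw [sum_apply_mul_conj, if_pos (IsConj.refl x)]
  have htot : ∑ x : H, (Nat.card (Subgroup.centralizer ({x} : Set H)) : ℂ) =
      Nat.card H * (Fintype.card (Cfsg.IrrCharacter H) : ℂ) := by
    simp only [h1]
    have e : ∀ φ ∈ (Finset.univ : Finset (Cfsg.IrrCharacter H)),
        ∑ x : H, (φ : H → ℂ) x * conj ((φ : H → ℂ) x) = (Nat.card H : ℂ) := fun φ _ => by
      have h := classInner_irr_self φ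
      unfold Cfsg.classInner at h
      exact ((inv_mul_eq_one₀ (CharInd.natCard_subgroup_ne_zero H)).mp h).symm
    rw [Finset.sum_comm, Finset.sum_congr rfl e, Finset.sum_const, nsmul_eq_mul, Finset.card_univ,
      mul_comm]
  rw [← Finset.add_sum_erase _ _ (Finset.mem_univ (1 : H))] at htot
  have hc1 : Nat.card (Subgroup.centralizer ({(1 : H)} : Set H)) = Nat.card H := by
    rw [show Subgroup.centralizer ({(1 : H)} : Set H) = ⊤ by
      ext a; simp [Subgroup.mem_centralizer_singleton_iff]]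
    exact Subgroup.card_top
  rw [hc1] at htot
  have hn : ((nonprincipal H).card : ℂ) = Fintype.card (Cfsg.IrrCharacter H) - 1 := by
    have := sum_nonprincipal H (fun _ => (1 : ℂ))
    simpa using this
  rw [hn]
  linear_combination htot

end Cfsg.Agent.CharClifford.FrobTI
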